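import Groth.Agent.ImmMono49.Scheme
import Groth.Agent.QcMono49.Stack
import Groth.Agent.AlgSpDec.FppfLqf
import Groth.Agent.AlgSpLib.ClosedImmDesc

/-!
# Monomorphisms of stacks with lifting along discrete valuation rings and over dense sets are immersions
-/

set_option autoImplicit false
set_option backward.isDefEq.respectTransparency false
set_option backward.isDefEq.respectTransparency.types false
set_option linter.unusedVariables false

universe u

open CategoryTheory CategoryTheory.Functor CategoryTheory.Limits Opposite AlgebraicGeometry AlgSp Topology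
  Groth.Agent.FibBase Groth.Agent.AlgSpLib Groth.Agent.AlgStLib

namespace Groth.Agent.ImmMono49

variable {S : Scheme.{u}}

local notation "K₀" => Scheme.fppfPrecoverage

variable {𝒳 𝒴 : AlgSt.Cat S} {f : 𝒴 ⥤ᵇ 𝒳} {V : Over S} {y : FibCat.overCat V ⥤ᵇ 𝒳} {F : AlgSp.Space S}
  {e : AlgSt.ofSp F.obj ⥤ᵇ FibCat.fp y f}

/-- A map to the representing space gives a lift of an object. -/
theorem exists_lift_of_map {T T' : Over S} (k : T ⟶ V) (ι : T' ⟶ T) (s : (yon S).obj T' ⟶ F.obj)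
    (hs : s ≫ AlgSt.spMapOfOver (BasedFunctor.comp e (FibCat.fpFst y f)) = (yon S).map (ι ≫ k)) :
    ∃ yp : FibCat.overCat T' ⥤ᵇ 𝒴, Nonempty (BasedFunctor.comp yp f ≅
      BasedFunctor.comp (AlgSt.overMap ι) (BasedFunctor.comp (AlgSt.overMap k) y)) := by
  obtain ⟨i⟩ := RedSub.overOfMap_comp_iso s (BasedFunctor.comp e (FibCat.fpFst y f)) (ι ≫ k) hs.symm
  exact ⟨BasedFunctor.comp (BasedFunctor.comp (overOfMap s) e) (FibCat.fpSnd y f),
    ⟨(whiskerLeftIso (BasedFunctor.comp (overOfMap s) e) (FibCat.fpIso y f)).symm ≪≫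
      whiskerRightIso i y ≪≫ whiskerRightIso (overMapCompIso ι k).symm y⟩⟩

/-- A lift of an object gives a map to the representing space. -/
theorem exists_map_of_lift (he : FibCat.IsEquivOver e) {T : Over S} (w : T ⟶ V) (yT : FibCat.overCat T ⥤ᵇ 𝒴)
    (i : BasedFunctor.comp yT f ≅ BasedFunctor.comp (AlgSt.overMap w) y) :
    ∃ s : (yon S).obj T ⟶ F.obj,
      s ≫ AlgSt.spMapOfOver (BasedFunctor.comp e (FibCat.fpFst y f)) = (yon S).map w := by
  let L : FibCat.overCat T ⥤ᵇ FibCat.fp y f := FibCat.fpLift (AlgSt.overMap w) yT i.symm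
  obtain ⟨G, -, -, ⟨j⟩⟩ := isEquivOver_inv he
  exact ⟨mapOfOver (BasedFunctor.comp L G), QcMono49.mapOfOver_comp_spMap _ (BasedFunctor.comp L G) w
    (whiskerRightIso (whiskerLeftIso L j) (FibCat.fpFst y f))⟩

theorem repByAlgSpWith_immersion
    (h𝒳 : AlgSt.IsAlgStack K₀ 𝒳) (hnoeth : AlgSt.SmoothLocally (fun X => IsLocallyNoetherian X) 𝒳)
    (hrep : AlgSt.RepByAlgSp1 f) (hlfp : AlgSt.RepByAlgSpWith (LocP @LocallyOfFinitePresentation) f)
    (ha : AlgSt.IsMono f)
    (hb : ∀ (A : Type u) [CommRing A] [IsDomain A] [IsDiscreteValuationRing A] (K : Type u) [Field K] [Algebra A K]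
      [IsFractionRing A K] (sA : Spec (CommRingCat.of A) ⟶ S) (a : FibCat.overCat (Over.mk sA) ⥤ᵇ 𝒳),
      (∃ yK : FibCat.overCat (Over.mk (Spec.map (CommRingCat.ofHom (algebraMap A K)) ≫ sA)) ⥤ᵇ 𝒴,
          Nonempty (BasedFunctor.comp yK f ≅ BasedFunctor.comp (AlgSt.overMap (Over.homMk (Spec.map (CommRingCat.ofHom (algebraMap A K))) rfl : Over.mk ((Spec.map (CommRingCat.ofHom (algebraMap A K))) ≫ sA) ⟶ Over.mk sA)) a)) →
      (∃ yk : FibCat.overCat (Over.mk (Spec.map (CommRingCat.ofHom (IsLocalRing.residue A)) ≫ sA)) ⥤ᵇ 𝒴,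
          Nonempty (BasedFunctor.comp yk f ≅ BasedFunctor.comp (AlgSt.overMap (Over.homMk (Spec.map (CommRingCat.ofHom (IsLocalRing.residue A))) rfl : Over.mk ((Spec.map (CommRingCat.ofHom (IsLocalRing.residue A))) ≫ sA) ⟶ Over.mk sA)) a)) →
      ∃ y : FibCat.overCat (Over.mk sA) ⥤ᵇ 𝒴, Nonempty (BasedFunctor.comp y f ≅ a))
    (hc : ∀ (A : Type u) [CommRing A] [IsDomain A] (sA : Spec (CommRingCat.of A) ⟶ S)
      (a : FibCat.overCat (Over.mk sA) ⥤ᵇ 𝒳) (D : Set ↥(Spec (CommRingCat.of A))), Dense D →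
      (∀ p ∈ D, ∃ yp : FibCat.overCat (Over.mk ((Spec (CommRingCat.of A)).fromSpecResidueField p ≫ sA)) ⥤ᵇ 𝒴,
          Nonempty (BasedFunctor.comp yp f ≅ BasedFunctor.comp (AlgSt.overMap (Over.homMk ((Spec (CommRingCat.of A)).fromSpecResidueField p) rfl : Over.mk (((Spec (CommRingCat.of A)).fromSpecResidueField p) ≫ sA) ⟶ Over.mk sA)) a)) →
      ∃ U : (Spec (CommRingCat.of A)).Opens, (U : Set ↥(Spec (CommRingCat.of A))).Nonempty ∧
        ∃ yU : FibCat.overCat (Over.mk (U.ι ≫ sA)) ⥤ᵇ 𝒴,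
          Nonempty (BasedFunctor.comp yU f ≅ BasedFunctor.comp (AlgSt.overMap (Over.homMk (U.ι) rfl : Over.mk ((U.ι) ≫ sA) ⟶ Over.mk sA)) a)) :
    AlgSt.RepByAlgSpWith (AlgSp.RepWith (@IsImmersion ⊓ @QuasiCompact)) f := by
  obtain ⟨V, y, hy, hy'⟩ := id h𝒳.atlas
  have : IsLocallyNoetherian V.left := hnoeth V y hy
  obtain ⟨F, e, he⟩ := hrep V y
  let Φ := BasedFunctor.comp e (FibCat.fpFst y f)
  let b : F.obj ⟶ (yon S).obj V := AlgSt.spMapOfOver Φ
  have : Mono b := isMono_property ha y e he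
  have hblfp : LocP @LocallyOfFinitePresentation b :=
    (RepOver.property_of_stableBC stableBC_locP (hlfp V y) e he).2
  have hblft : LocP @LocallyOfFiniteType b := locP_mono
    (fun _ _ g (_ : LocallyOfFinitePresentation g) => inferInstanceAs (LocallyOfFiniteType g)) hblfp
  -- the representing space is a scheme
  obtain ⟨Q, ⟨ε⟩⟩ := AlgSpDec.exists_iso_of_lqf_separated F.property b
    (AlgSpDec.locP_lqf_of_mono b hblft) (AlgSpDec.isSeparatedMor_of_mono b)
  obtain ⟨g, hg⟩ := (yon S).map_surjective (ε.hom ≫ b)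
  have : Mono ((yon S).map g) := by rw [hg]; infer_instance
  have : Mono g := (yon S).mono_of_mono_map this
  have : Mono g.left := inferInstanceAs (Mono ((Over.forget S).map g))
  have : LocallyOfFinitePresentation g.left :=
    hblfp ε.hom (𝟙 _) g (repWith_of_isIso _ _) (repWith_id _ V) (by rw [Category.comp_id, hg])
  have toF : ∀ {T : Over S} (w : T ⟶ V) (l : T ⟶ Q), l ≫ g = w → ((yon S).map l ≫ ε.hom) ≫ b = (yon S).map w := by
    intro T w l hl
    rw [Category.assoc, ← hg, ← Functor.map_comp, hl]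
  have toQ : ∀ {T : Over S} (w : T ⟶ V) (s : (yon S).obj T ⟶ F.obj), s ≫ b = (yon S).map w →
      ∃ l : T ⟶ Q, l ≫ g = w := by
    intro T w s hs
    obtain ⟨l, hl⟩ := (yon S).map_surjective (s ≫ ε.inv)
    exact ⟨l, (yon S).map_injective (by
      rw [Functor.map_comp, hl, hg, Category.assoc, ε.inv_hom_id_assoc, hs])⟩
  have hd : DenseLift g.left := by
    intro A _ _ k D hD hlift
    let sA : Spec (CommRingCat.of A) ⟶ S := k ≫ V.hom
    let k' : Over.mk sA ⟶ V := Over.homMk k rfl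
    obtain ⟨U, hU, yU, ⟨iU⟩⟩ := hc A sA (BasedFunctor.comp (AlgSt.overMap k') y) D hD fun p hp => by
      obtain ⟨l, hl⟩ := hlift p hp
      let ι' : Over.mk ((Spec (CommRingCat.of A)).fromSpecResidueField p ≫ sA) ⟶ Over.mk sA :=
        Over.homMk ((Spec (CommRingCat.of A)).fromSpecResidueField p) rfl
      let l' : Over.mk ((Spec (CommRingCat.of A)).fromSpecResidueField p ≫ sA) ⟶ Q := Over.homMk l (by
        show l ≫ Q.hom = _
        rw [← Over.w g, reassoc_of% hl]
        rfl)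
      exact exists_lift_of_map k' ι' _ (toF (ι' ≫ k') l' (Over.OverMorphism.ext hl))
    let ι' : Over.mk (U.ι ≫ sA) ⟶ Over.mk sA := Over.homMk U.ι rfl
    obtain ⟨s, hs⟩ := exists_map_of_lift he (ι' ≫ k') yU (iU ≪≫ whiskerRightIso (overMapCompIso ι' k') y)
    obtain ⟨l, hl⟩ := toQ _ s hs
    exact ⟨U, hU, l.left, congrArg CommaMorphism.left hl⟩
  have hv : DVRLift g.left := by
    intro T _ ⟨l₀, hl₀⟩
    let sA : Spec (CommRingCat.of T.R) ⟶ S := T.i₂ ≫ V.hom
    let k' : Over.mk sA ⟶ V := Over.homMk T.i₂ rfl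
    obtain ⟨yA, ⟨iA⟩⟩ := hb T.R T.K sA (BasedFunctor.comp (AlgSt.overMap k') y)
      (by
        let ι' : Over.mk (Spec.map (CommRingCat.ofHom (algebraMap T.R T.K)) ≫ sA) ⟶ Over.mk sA :=
          Over.homMk (Spec.map (CommRingCat.ofHom (algebraMap T.R T.K))) rfl
        let l' : Over.mk (Spec.map (CommRingCat.ofHom (algebraMap T.R T.K)) ≫ sA) ⟶ Q := Over.homMk T.i₁ (by
          show T.i₁ ≫ Q.hom = _
          rw [← Over.w g, reassoc_of% T.commSq.w]
          rfl)
        exact exists_lift_of_map k' ι' _ (toF (ι' ≫ k') l' (Over.OverMorphism.ext T.commSq.w)))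
      (by
        let ι' : Over.mk (Spec.map (CommRingCat.ofHom (IsLocalRing.residue T.R)) ≫ sA) ⟶ Over.mk sA :=
          Over.homMk (Spec.map (CommRingCat.ofHom (IsLocalRing.residue T.R))) rfl
        let l' : Over.mk (Spec.map (CommRingCat.ofHom (IsLocalRing.residue T.R)) ≫ sA) ⟶ Q := Over.homMk l₀ (by
          show l₀ ≫ Q.hom = _
          rw [← Over.w g, reassoc_of% hl₀]
          rfl)
        exact exists_lift_of_map k' ι' _ (toF (ι' ≫ k') l' (Over.OverMorphism.ext hl₀)))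
    obtain ⟨s, hs⟩ := exists_map_of_lift he k' yA iA
    obtain ⟨l, hl⟩ := toQ _ s hs
    have hr : l.left ≫ g.left = T.i₂ := congrArg CommaMorphism.left hl
    exact ⟨⟨{
      l := l.left
      fac_left := by rw [← cancel_mono g.left, Category.assoc, hr]; exact T.commSq.w.symm
      fac_right := hr }⟩⟩
  have hP : (@IsImmersion ⊓ @QuasiCompact : MorphismProperty Scheme.{u}) g.left :=
    ⟨isImmersion g.left hv hd, quasiCompact g.left hd⟩
  have hq : RepWith (@IsImmersion ⊓ @QuasiCompact) b := by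
    rw [show b = ε.inv ≫ (yon S).map g by rw [hg, ε.inv_hom_id_assoc]]
    exact repWith_comp (repWith_of_isIso _ _) ((repWith_yon_map_iff _ g).2 hP)
  exact repByAlgSpWith_of_locEssSurj stableBC_of
    (isLocalOnBase_fppf_of_fpqc isLocalOnBase_fpqc_qcImmersion) hrep (locEssSurj_of_atlas hy hy')
    ((repByAlgSpWith_iff_of_square (f := FibCat.fpFst y f)
      (f' := AlgSt.ofSpMap b) (a := e) (b := AlgSt.toOverCat V) he (isEquivOver_toOverCat V)
      (isoSpMapOfOver Φ).symm).2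
      (repByAlgSpWith_ofSpMap stableBC_of F.property (IsAlgSpace.yon_obj V) b hq))

end Groth.Agent.ImmMono49
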