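import Groth.Agent.S4433
import Mathlib.Algebra.Category.Ring.Epi
import Mathlib.RingTheory.EssentialFiniteness
import Mathlib.RingTheory.Ideal.AssociatedPrime.Finiteness
import Mathlib.Algebra.Polynomial.Reverse
import Mathlib.RingTheory.Localization.AsSubring
import Mathlib.FieldTheory.IntermediateField.Adjoin.Defs

/-!
# Ring epimorphisms dominated by no other discrete valuation ring are surjective

A local homomorphism `A → D`, essentially of finite type, which is an epimorphism and lifts every
discrete valuation of the fraction field of `D` dominating `A`, is surjective.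
-/

set_option autoImplicit false
set_option backward.isDefEq.respectTransparency false
set_option backward.isDefEq.respectTransparency.types false

universe u

open CategoryTheory Polynomial

namespace Groth.Agent.ImmMono49

/-- A maximal ideal, not zero, of a Noetherian domain is dominated by a discrete valuation ring. -/
theorem exists_dvr_dominating (C L : Type u) [CommRing C] [IsDomain C] [IsNoetherianRing C] [Field L]
    [Algebra C L] [IsFractionRing C L] (n : Ideal C) [n.IsMaximal] (hn : n ≠ ⊥) :
    ∃ V : ValuationSubring L, IsDiscreteValuationRing V ∧ (∀ c, algebraMap C L c ∈ V) ∧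
      ∀ c ∈ n, V.valuation (algebraMap C L c) < 1 := by
  have hle : n.primeCompl ≤ nonZeroDivisors C := n.primeCompl_le_nonZeroDivisors
  let A := Localization.subalgebra.ofField L n.primeCompl hle
  have : IsLocalRing A := IsLocalization.AtPrime.isLocalRing A n
  have : IsNoetherianRing A := IsLocalization.isNoetherianRing n.primeCompl A inferInstance
  have hA : ¬ IsField A := by
    intro h
    obtain ⟨c, hc, hc0⟩ := Submodule.exists_mem_ne_zero_of_ne_bot hn
    have hmem := (IsLocalization.AtPrime.to_map_mem_maximal_iff A n c).2 hc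
    rw [IsLocalRing.isField_iff_maximalIdeal_eq.1 h, Ideal.mem_bot] at hmem
    exact hc0 (IsLocalization.injective A hle (by rw [hmem, map_zero]))
  have hfg : (⊤ : IntermediateField L L).FG := by
    rw [show (⊤ : IntermediateField L L) = ⊥ from
      le_antisymm (fun z _ => IntermediateField.mem_bot.2 ⟨z, rfl⟩) bot_le]
    exact IntermediateField.fg_bot
  obtain ⟨V, h1, h2, h3⟩ := S4433.result A hA L L hfg
  refine ⟨V, h1, fun c => ?_, fun c hc => ?_⟩
  · have h := h2 (algebraMap C A c)
    rwa [← IsScalarTower.algebraMap_apply] at h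
  · have h := h3 (algebraMap C A c) ((IsLocalization.AtPrime.to_map_mem_maximal_iff A n c).2 hc)
    rwa [← IsScalarTower.algebraMap_apply] at h

/-- The image of a ring in a field, onto which it maps epimorphically, has that field as fraction field. -/
theorem exists_div_of_isEpi (A L : Type u) [CommRing A] [Field L] [Algebra A L] [Algebra.IsEpi A L] (z : L) :
    ∃ a b : A, z = algebraMap A L a / algebraMap A L b := by
  let K : Subfield L := Subfield.closure (Set.range (algebraMap A L))
  let φ : A →+* K := (algebraMap A L).codRestrict K fun a => Subfield.subset_closure ⟨a, rfl⟩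
  have : Epi (CommRingCat.ofHom φ ≫ CommRingCat.ofHom (algebraMap K L)) := by
    rw [← CommRingCat.ofHom_comp]
    exact CommRingCat.epi_iff_epi.2 ‹Algebra.IsEpi A L›
  have : Algebra.IsEpi K L := CommRingCat.epi_iff_epi.1 (epi_of_epi (CommRingCat.ofHom φ) _)
  have hs : Function.Surjective (algebraMap K L) := by
    intro a
    obtain ⟨ψ, hψ⟩ := LinearMap.exists_leftInverse_of_injective (Algebra.linearMap K L)
      (LinearMap.ker_eq_bot.2 (algebraMap K L).injective)
    have h1 : ψ 1 = 1 := by simpa using LinearMap.congr_fun hψ 1
    have h := congrArg (fun t => TensorProduct.lid K L (TensorProduct.map ψ LinearMap.id t))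
      ((Algebra.isEpi_iff_forall_one_tmul_eq K L).1 inferInstance a)
    simp [h1, Algebra.smul_def] at h
    exact ⟨ψ a, h.symm⟩
  obtain ⟨⟨w, hw⟩, rfl⟩ := hs z
  obtain ⟨a, ha, b, hb, rfl⟩ := Subfield.mem_closure_iff.1 hw
  rw [← RingHom.coe_range, Subring.closure_eq] at ha hb
  obtain ⟨⟨a, rfl⟩, ⟨b, rfl⟩⟩ := And.intro ha hb
  exact ⟨a, b, rfl⟩

section

variable {A L : Type u} [CommRing A] [Field L] [Algebra A L]

theorem isFractionRing_subalgebra [Algebra.IsEpi A L] (C : Subalgebra A L) : IsFractionRing C L :=
  IsFractionRing.of_field C L fun z => by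
    obtain ⟨a, b, h⟩ := exists_div_of_isEpi A L z
    exact ⟨algebraMap A C a, algebraMap A C b, h⟩

/-- An element lying in the algebra generated by its inverse is integral. -/
theorem isIntegral_of_mem_adjoin_inv {x : L} (hx : x ∈ Algebra.adjoin A {x⁻¹}) : IsIntegral A x := by
  obtain rfl | h0 := eq_or_ne x 0
  · exact isIntegral_zero
  rw [Algebra.adjoin_singleton_eq_range_aeval] at hx
  obtain ⟨p, hp⟩ := hx
  let : Invertible x⁻¹ := invertibleOfNonzero (inv_ne_zero h0)
  have h := eval₂_reverse_mul_pow (algebraMap A L) x⁻¹ p
  rw [invOf_eq_inv, inv_inv] at h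
  have h' : eval₂ (algebraMap A L) x p.reverse = x ^ (p.natDegree + 1) := by
    have e : eval₂ (algebraMap A L) x⁻¹ p = x := hp
    rw [e, inv_pow] at h
    rw [pow_succ', ← mul_inv_eq_iff_eq_mul₀ (pow_ne_zero _ h0)]
    exact h
  refine ⟨X ^ (p.natDegree + 1) - p.reverse, monic_X_pow_sub ?_, ?_⟩
  · exact degree_le_natDegree.trans_lt (by exact_mod_cast Nat.lt_succ_of_le (reverse_natDegree_le p))
  · rw [eval₂_sub, eval₂_X_pow, h', sub_self]

end

variable {A : Type u} [CommRing A]

/-- An epimorphism to a local domain, essentially of finite type, is surjective if every discrete valuation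
ring of the fraction field dominating the source contains the target. -/
theorem surjective_of_dvr [IsLocalRing A] [IsNoetherianRing A] (D : Type u) [CommRing D] [IsDomain D]
    [Algebra A D] [Algebra.EssFiniteType A D] [Algebra.IsEpi A D]
    (hV : ∀ V : ValuationSubring (FractionRing D), IsDiscreteValuationRing V →
      (∀ a, algebraMap A (FractionRing D) a ∈ V) →
      (∀ a ∈ IsLocalRing.maximalIdeal A, V.valuation (algebraMap A (FractionRing D) a) < 1) →
      ∀ d, algebraMap D (FractionRing D) d ∈ V) :
    Function.Surjective (algebraMap A D) := by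
  let L := FractionRing D
  have : Algebra.IsEpi A L := CommRingCat.epi_iff_epi.1 (by
    rw [IsScalarTower.algebraMap_eq A D L, CommRingCat.ofHom_comp]
    exact @CategoryTheory.epi_comp _ _ _ _ _ _ (CommRingCat.epi_iff_epi.2 ‹_›) _
      (CommRingCat.epi_iff_epi.2 inferInstance))
  -- every element is integral
  have hint : Algebra.IsIntegral A D := ⟨fun g => by
    by_contra hg
    let x : L := algebraMap D L g
    have hx : ¬ IsIntegral A x := fun h =>
      hg ((isIntegral_algHom_iff (IsScalarTower.toAlgHom A D L) (IsFractionRing.injective D L)).1 h)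
    have hx0 : x ≠ 0 := fun h => hx (h ▸ isIntegral_zero)
    let C := Algebra.adjoin A ({x⁻¹} : Set L)
    have : IsFractionRing C L := isFractionRing_subalgebra C
    have : Algebra.FiniteType A C := C.fg_iff_finiteType.1 ⟨{x⁻¹}, by simp [C]⟩
    have : IsNoetherianRing C := Algebra.FiniteType.isNoetherianRing A C
    let y : C := ⟨x⁻¹, Algebra.self_mem_adjoin_singleton A _⟩
    have hy : Ideal.span {y} ≠ ⊤ := by
      intro h
      rw [Ideal.span_singleton_eq_top] at h
      obtain ⟨c, hc⟩ := h.exists_right_inv
      have e : x⁻¹ * (c : L) = 1 := congrArg Subtype.val hc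
      have hmem : x ∈ C := by
        rw [← (eq_inv_of_mul_eq_one_right e).trans (inv_inv x)]
        exact c.2
      exact hx (isIntegral_of_mem_adjoin_inv hmem)
    obtain ⟨n, hn, hyn⟩ := Ideal.exists_le_maximal _ hy
    have hyn' : y ∈ n := hyn (Ideal.mem_span_singleton_self y)
    have hn0 : n ≠ ⊥ := by
      rintro rfl
      exact inv_ne_zero hx0 (congrArg Subtype.val (Ideal.mem_bot.1 hyn'))
    have hm : n.comap (algebraMap A C) = IsLocalRing.maximalIdeal A := by
      refine IsLocalRing.eq_maximalIdeal ?_
      have hs : Function.Surjective ((Ideal.Quotient.mk n).comp (algebraMap A C)) := by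
        intro q
        obtain ⟨⟨c, hc⟩, rfl⟩ := Ideal.Quotient.mk_surjective q
        have hc' : c ∈ Algebra.adjoin A ({x⁻¹} : Set L) := hc
        rw [Algebra.adjoin_singleton_eq_range_aeval] at hc'
        obtain ⟨p, hp⟩ := hc'
        refine ⟨p.coeff 0, ?_⟩
        have e : (⟨c, hc⟩ : C) = aeval y p := Subtype.ext (by
          rw [← Subalgebra.coe_val, ← aeval_algHom_apply]
          exact hp.symm)
        rw [e]
        conv_rhs => rw [← X_mul_divX_add p]
        rw [map_add, map_mul, aeval_X, aeval_C, map_add, map_mul, Ideal.Quotient.eq_zero_iff_mem.2 hyn', zero_mul,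
          zero_add]
        rfl
      let _ := Ideal.Quotient.field n
      have h' := RingHom.ker_isMaximal_of_surjective _ hs
      rwa [← RingHom.comap_ker, Ideal.mk_ker] at h'
    obtain ⟨V, hV1, hV2, hV3⟩ := exists_dvr_dominating C L n hn0
    have hg' := hV V hV1 (fun a => hV2 (algebraMap A C a)) (fun a ha => hV3 (algebraMap A C a) (by
      rw [← hm] at ha
      exact ha)) g
    have h1 := hV3 y hyn'
    have h2 : V.valuation x ≤ 1 := (V.valuation_le_one_iff x).2 hg'
    have h3 : V.valuation (x * x⁻¹) < 1 := by
      rw [map_mul]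
      exact (mul_le_of_le_one_left' h2).trans_lt h1
    rw [mul_inv_cancel₀ hx0, map_one] at h3
    exact lt_irrefl _ h3⟩
  -- hence finite
  obtain ⟨σ, hσ⟩ := (Algebra.essFiniteType_iff A D).1 ‹Algebra.EssFiniteType A D›
  let C := Algebra.adjoin A (σ : Set D)
  have : Algebra.FiniteType A C := C.fg_iff_finiteType.1 ⟨σ, rfl⟩
  have : IsNoetherianRing C := Algebra.FiniteType.isNoetherianRing A C
  have : Algebra.IsIntegral A C := ⟨fun c => (isIntegral_algHom_iff C.val Subtype.val_injective).1 (hint.1 _)⟩
  have : FaithfulSMul C L := (faithfulSMul_iff_algebraMap_injective C L).2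
    ((IsFractionRing.injective D L).comp Subtype.val_injective)
  have : IsFractionRing C L := IsFractionRing.of_field C L fun z => by
    obtain ⟨a, b, h⟩ := exists_div_of_isEpi A L z
    refine ⟨algebraMap A C a, algebraMap A C b, h.trans ?_⟩
    rfl
  have hC : C = ⊤ := top_unique fun s _ => by
    obtain ⟨t, ht, htu, hst⟩ := hσ s
    suffices h : IsUnit (⟨t, ht⟩ : C) by
      obtain ⟨t', ht'⟩ := h.exists_right_inv
      have e : t * (t' : D) = 1 := congrArg Subtype.val ht'
      rw [show s = s * t * t' by rw [mul_assoc, e, mul_one]]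
      exact mul_mem hst t'.2
    by_contra h
    obtain ⟨n, hn, htn⟩ := exists_max_ideal_of_mem_nonunits (mem_nonunits_iff.2 h)
    have hn0 : n ≠ ⊥ := by
      rintro rfl
      exact htu.ne_zero (congrArg Subtype.val (Ideal.mem_bot.1 htn))
    have hm : n.comap (algebraMap A C) = IsLocalRing.maximalIdeal A :=
      IsLocalRing.eq_maximalIdeal (Ideal.isMaximal_comap_of_isIntegral_of_isMaximal n)
    obtain ⟨V, hV1, hV2, hV3⟩ := exists_dvr_dominating C L n hn0
    have hD := hV V hV1 (fun a => hV2 (algebraMap A C a)) (fun a ha => hV3 (algebraMap A C a) (by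
      rw [← hm] at ha
      exact ha))
    obtain ⟨t', ht'⟩ := htu.exists_right_inv
    have h1 : V.valuation (algebraMap D L t * algebraMap D L t') < 1 := by
      rw [map_mul]
      exact (mul_le_of_le_one_right' ((V.valuation_le_one_iff _).2 (hD t'))).trans_lt (hV3 _ htn)
    rw [← map_mul, ht', map_one, map_one] at h1
    exact lt_irrefl _ h1
  have : Algebra.FiniteType A D := ⟨⟨σ, hC⟩⟩
  have : Module.Finite A D := Algebra.IsIntegral.finite
  exact Algebra.isEpi_iff_surjective_algebraMap_of_finite.1 inferInstance

/-- Finite modules over a Noetherian algebra are finite over the base if quotients by primes are. -/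
theorem finite_restrict {R : Type u} [CommRing R] [IsNoetherianRing R] [Algebra A R]
    (h : ∀ q : Ideal R, q.IsPrime → Function.Surjective (algebraMap A (R ⧸ q)))
    (N : Type u) [AddCommGroup N] [Module R N] (hN : Module.Finite R N) :
    ∀ [Module A N] [IsScalarTower A R N], Module.Finite A N := by
  induction hN using IsNoetherianRing.induction_on_isQuotientEquivQuotientPrime R with
  | subsingleton N => intros; infer_instance
  | quotient N p e =>
    intro _ _
    have : Module.Finite A (R ⧸ p.1) :=
      Module.Finite.of_surjective (Algebra.linearMap A _) (h p.1 p.2)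
    exact Module.Finite.equiv (e.restrictScalars A).symm
  | exact N₁ N₂ N₃ f g hf hg hfg h₁ h₃ =>
    intro _ _
    let : Module A N₁ := Module.compHom N₁ (algebraMap A R)
    let : Module A N₃ := Module.compHom N₃ (algebraMap A R)
    have t₁ : IsScalarTower A R N₁ := IsScalarTower.of_algebraMap_smul fun _ _ => rfl
    have t₃ : IsScalarTower A R N₃ := IsScalarTower.of_algebraMap_smul fun _ _ => rfl
    have := @h₁ _ t₁
    have := @h₃ _ t₃
    exact Module.Finite.of_exact (f := f.restrictScalars A) (g := g.restrictScalars A) hfg hg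

/-- An epimorphism to a Noetherian ring is surjective if it is so after every quotient by a prime. -/
theorem surjective_of_forall_prime {R : Type u} [CommRing R] [IsNoetherianRing R] [Algebra A R] [Algebra.IsEpi A R]
    (h : ∀ q : Ideal R, q.IsPrime → Function.Surjective (algebraMap A (R ⧸ q))) :
    Function.Surjective (algebraMap A R) := by
  have : Module.Finite A R := finite_restrict h R inferInstance
  exact Algebra.isEpi_iff_surjective_algebraMap_of_finite.1 inferInstance

end Groth.Agent.ImmMono49
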