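import Groth.Agent.ImmMono49.Alg
import Groth.Agent.QcMono49.Space
import Groth.Agent.AlgSpPts.SepDescent
import Groth.Agent.AlgSpPts.Field
import Groth.Agent.AlgSpVal.DvrThrough
import Mathlib.AlgebraicGeometry.Morphisms.Immersion
import Mathlib.AlgebraicGeometry.ValuativeCriterion
import Mathlib.RingTheory.Spectrum.Prime.ConstructibleSet
import Mathlib.AlgebraicGeometry.Noetherian

/-!
# Monomorphisms with lifting along discrete valuation rings and over dense sets are immersions
-/

set_option autoImplicit false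
set_option backward.isDefEq.respectTransparency false
set_option backward.isDefEq.respectTransparency.types false
set_option linter.unusedVariables false

universe u

open CategoryTheory CategoryTheory.Limits Opposite AlgebraicGeometry AlgSp Groth.Agent.AlgSpLib Topology IsLocalRing
  TopologicalSpace

namespace Groth.Agent.ImmMono49

/-- A point in the closure of the image of a closed subset of a Noetherian sober space is a specialisation of
the image of a point of that subset. -/
theorem exists_specializes_image {α β : Type*} [TopologicalSpace α] [TopologicalSpace β] [NoetherianSpace α]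
    [QuasiSober α] {g : α → β} (hg : Continuous g) {s : Set α} (hs : IsClosed s) {b : β}
    (hb : b ∈ closure (g '' s)) : ∃ a ∈ s, g a ⤳ b := by
  obtain ⟨T, hT, hTc, hTi, rfl⟩ := NoetherianSpace.exists_finite_set_isClosed_irreducible hs
  rw [Set.image_sUnion, Set.sUnion_image, hT.closure_biUnion] at hb
  obtain ⟨t, ht, hbt⟩ := Set.mem_iUnion₂.1 hb
  obtain ⟨a, ha⟩ := QuasiSober.sober (hTi t ht) (hTc t ht)
  refine ⟨a, Set.mem_sUnion.2 ⟨t, ht, ha.mem⟩, specializes_iff_mem_closure.2 ?_⟩
  refine closure_minimal ?_ isClosed_closure hbt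
  rw [← Set.image_singleton (f := g) (a := a), ← ha.def]
  exact image_closure_subset_closure_image hg

variable {X Y : Scheme.{u}} (f : Y ⟶ X)

/-- Lifting along discrete valuation rings whose residue field point lifts. -/
def DVRLift : Prop :=
  ∀ S : ValuativeCommSq f, IsDiscreteValuationRing S.R →
    (∃ l₀ : Spec (CommRingCat.of (IsLocalRing.ResidueField S.R)) ⟶ Y,
      l₀ ≫ f = Spec.map (CommRingCat.ofHom (IsLocalRing.residue S.R)) ≫ S.i₂) →
    S.commSq.HasLift

/-- Lifting to an open set from a dense set of points. -/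
def DenseLift : Prop :=
  ∀ (A : Type u) [CommRing A] [IsDomain A] (s : Spec (CommRingCat.of A) ⟶ X) (D : Set ↥(Spec (CommRingCat.of A))),
    Dense D →
    (∀ p ∈ D, ∃ l : Spec ((Spec (CommRingCat.of A)).residueField p) ⟶ Y,
      l ≫ f = (Spec (CommRingCat.of A)).fromSpecResidueField p ≫ s) →
    ∃ U : (Spec (CommRingCat.of A)).Opens, (U : Set ↥(Spec (CommRingCat.of A))).Nonempty ∧
      ∃ l : (U : Scheme.{u}) ⟶ Y, l ≫ f = U.ι ≫ s

theorem quasiCompact [IsLocallyNoetherian X] [LocallyOfFinitePresentation f] [Mono f] (hc : DenseLift f) :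
    QuasiCompact f := by
  let g : Over.mk f ⟶ Over.mk (𝟙 X) := Over.homMk f (Category.comp_id f)
  have : Mono ((Over.forget X).map g) := ‹Mono f›
  have : Mono g := (Over.forget X).mono_of_mono_map this
  have : Mono ((yon X).map g) := inferInstance
  have : IsLocallyNoetherian (Over.mk (𝟙 X)).left := ‹IsLocallyNoetherian X›
  have hlfp : LocP @LocallyOfFinitePresentation ((yon X).map g) :=
    locP_of_repWith ((repWith_yon_map_iff _ g).2 ‹LocallyOfFinitePresentation f›)
  refine AlgSpPts.quasiCompact_of_isQuasiCompactMor g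
    (QcMono49.isQuasiCompactMor (IsAlgSpace.yon_obj _) _ hlfp ?_)
  intro A _ _ k D hD hl
  obtain ⟨U, hU, l, hl'⟩ := hc A k D hD fun p hp => by
    obtain ⟨s, hs⟩ := hl p hp
    obtain ⟨s₀, rfl⟩ := (yon X).map_surjective s
    rw [← Functor.map_comp] at hs
    exact ⟨s₀.left, congrArg CommaMorphism.left ((yon X).map_injective hs)⟩
  refine ⟨U, hU, (yon X).map (Over.homMk l (by show l ≫ f = U.ι ≫ k ≫ 𝟙 X; exact hl'.trans (congrArg (U.ι ≫ ·) (Category.comp_id k).symm))), ?_⟩
  rw [← Functor.map_comp]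
  exact congrArg (yon X).map (Over.OverMorphism.ext hl')

/-- Field points in the image of a monomorphism lift. -/
theorem exists_lift_field [Mono f] {K : Type u} [Field K] (q : Spec (CommRingCat.of K) ⟶ X)
    (h : q (closedPoint K) ∈ Set.range f) : ∃ l, l ≫ f = q := by
  obtain ⟨y, hy⟩ := h
  obtain ⟨w, -, -⟩ := Scheme.Pullback.exists_preimage_pullback (f := f) (g := q) y _ hy
  have : Nonempty ↥(pullback f q) := ⟨w⟩
  have : IsIso (pullback.snd f q) := AlgSpPts.isIso_of_mono_to_field (pullback.snd f q)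
  exact ⟨inv (pullback.snd f q) ≫ pullback.fst f q, by
    rw [Category.assoc, pullback.condition, IsIso.inv_hom_id_assoc]⟩

theorem exists_lift_dvr [Mono f] (hb : DVRLift f) {A : Type u} [CommRing A] [IsDomain A] [IsDiscreteValuationRing A]
    {K : Type u} [Field K] [Algebra A K] [IsFractionRing A K] (i : Spec (CommRingCat.of A) ⟶ X)
    (k : Spec (CommRingCat.of K) ⟶ Y) (h : k ≫ f = Spec.map (CommRingCat.ofHom (algebraMap A K)) ≫ i)
    {y : Y} (hy : i (closedPoint A) = f y) :
    ∃ l : Spec (CommRingCat.of A) ⟶ Y, Spec.map (CommRingCat.ofHom (algebraMap A K)) ≫ l = k ∧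
      l ≫ f = i ∧ l (closedPoint A) = y := by
  let S : ValuativeCommSq f := { R := A, K := K, i₁ := k, i₂ := i, commSq := ⟨h⟩ }
  obtain ⟨l₀, hl₀⟩ := exists_lift_field f (Spec.map (CommRingCat.ofHom (IsLocalRing.residue A)) ≫ i) ⟨y, by
    rw [Scheme.Hom.comp_apply, ← hy]
    congr 1
    exact (IsLocalRing.comap_closedPoint (IsLocalRing.residue A)).symm⟩
  have : S.commSq.HasLift := hb S ‹_› ⟨l₀, hl₀⟩
  refine ⟨S.commSq.lift, S.commSq.fac_left, S.commSq.fac_right, f.injective ?_⟩
  rw [← Scheme.Hom.comp_apply, S.commSq.fac_right]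
  exact hy

theorem specializes_of_map [IsLocallyNoetherian X] [LocallyOfFiniteType f] [Mono f] (hb : DVRLift f) {y' y : Y}
    (h : f y' ⤳ f y) : y' ⤳ y := by
  obtain ⟨A, _, _, _, i, k, hi, hk, hw⟩ := AlgSpVal.exists_dvr_path_field f y' (f y) h
  obtain ⟨l, h1, h2, h3⟩ := exists_lift_dvr f hb i k hw hi
  rw [← hk, ← h3, ← h1, Scheme.Hom.comp_apply]
  exact (IsLocalRing.specializes_closedPoint _).map l.continuous

theorem exists_factor_fromSpecStalk {R : Type u} [CommRing R] [IsLocalRing R] (l : Spec (CommRingCat.of R) ⟶ Y)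
    {y : Y} (h : l (closedPoint R) = y) :
    ∃ ρ : Y.presheaf.stalk y ⟶ CommRingCat.of R, Spec.map ρ ≫ Y.fromSpecStalk y = l := by
  subst h
  exact ⟨_, Scheme.Spec_stalkClosedPointTo_fromSpecStalk l⟩

theorem stalkMap_surjective [IsLocallyNoetherian X] [LocallyOfFiniteType f] [Mono f] (hb : DVRLift f) (y : Y) :
    Function.Surjective (f.stalkMap y) := by
  have : IsLocallyNoetherian Y := LocallyOfFiniteType.isLocallyNoetherian f
  let φ := f.stalkMap y
  let _ : Algebra (X.presheaf.stalk (f y)) (Y.presheaf.stalk y) := φ.hom.toAlgebra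
  have : Algebra.EssFiniteType (X.presheaf.stalk (f y)) (Y.presheaf.stalk y) :=
    LocallyOfFiniteType.stalkMap f y
  have hmono : Mono (Spec.map φ ≫ X.fromSpecStalk (f y)) := by
    rw [Scheme.SpecMap_stalkMap_fromSpecStalk]
    infer_instance
  have : Mono (Scheme.Spec.map φ.op) := mono_of_mono (Spec.map φ) (X.fromSpecStalk (f y))
  have : Mono φ.op := Scheme.Spec.mono_of_mono_map this
  have : Epi φ := unop_epi_of_mono φ.op
  have : Algebra.IsEpi (X.presheaf.stalk (f y)) (Y.presheaf.stalk y) := CommRingCat.epi_iff_epi.1 this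
  refine surjective_of_forall_prime fun q hq => ?_
  let A : Type u := X.presheaf.stalk (f y)
  let D : Type u := Y.presheaf.stalk y ⧸ q
  have : Algebra.IsEpi (X.presheaf.stalk (f y)) D := CommRingCat.epi_iff_epi.1 (by
    have : Epi (CommRingCat.ofHom (Ideal.Quotient.mk q)) :=
      ConcreteCategory.epi_of_surjective _ Ideal.Quotient.mk_surjective
    exact (inferInstanceAs (Epi (φ ≫ CommRingCat.ofHom (Ideal.Quotient.mk q)))))
  refine surjective_of_dvr D fun V hV1 hV2 hV3 d => ?_
  let L : Type u := FractionRing D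
  let α : X.presheaf.stalk (f y) ⟶ CommRingCat.of V :=
    CommRingCat.ofHom ((algebraMap (X.presheaf.stalk (f y)) L).codRestrict V.toSubring hV2)
  have : IsLocalHom α.hom := ⟨fun a ha => by
    by_contra hn
    have h1 : V.valuation (algebraMap (X.presheaf.stalk (f y)) L a) = 1 := V.valuation_unit ha.unit
    exact (hV3 a (mem_maximalIdeal a |>.2 hn)).ne h1⟩
  let k : Spec (CommRingCat.of L) ⟶ Y :=
    Spec.map (CommRingCat.ofHom (algebraMap (Y.presheaf.stalk y) L)) ≫ Y.fromSpecStalk y
  have hw : k ≫ f = Spec.map (CommRingCat.ofHom (algebraMap V L)) ≫ Spec.map α ≫ X.fromSpecStalk (f y) := by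
    rw [Category.assoc, ← Scheme.SpecMap_stalkMap_fromSpecStalk, ← Spec.map_comp_assoc, ← Spec.map_comp_assoc]
    congr 2
  obtain ⟨l, h1, -, h3⟩ := exists_lift_dvr f hb (Spec.map α ≫ X.fromSpecStalk (f y)) k hw (y := y) (by
    rw [Scheme.Hom.comp_apply]
    exact (congrArg (X.fromSpecStalk (f y)) (IsLocalRing.comap_closedPoint α.hom)).trans
      Scheme.fromSpecStalk_closedPoint)
  obtain ⟨ρ, hρ⟩ := exists_factor_fromSpecStalk l h3
  rw [← hρ, ← Category.assoc, ← Spec.map_comp, cancel_mono] at h1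
  obtain ⟨r, rfl⟩ := Ideal.Quotient.mk_surjective d
  have e := RingHom.congr_fun (congrArg CommRingCat.Hom.hom (Spec.map_injective h1)) r
  change ((ρ r : V) : L) = _ at e
  exact e ▸ (ρ r).2

theorem mem_range_of_specializes [IsLocallyNoetherian X] [LocallyOfFiniteType f] [Mono f] (hb : DVRLift f) {y' y : Y}
    {x : X} (h1 : f y' ⤳ x) (h2 : x ⤳ f y) : x ∈ Set.range f := by
  have hy := specializes_of_map f hb (h1.trans h2)
  have h2' : x ∈ Set.range (X.fromSpecStalk (f y)) := by rw [Scheme.range_fromSpecStalk]; exact h2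
  obtain ⟨p, rfl⟩ := h2'
  have hy' : y' ∈ Set.range (Y.fromSpecStalk y) := by rw [Scheme.range_fromSpecStalk]; exact hy
  obtain ⟨q, rfl⟩ := hy'
  have e : ∀ r, f (Y.fromSpecStalk y r) = X.fromSpecStalk (f y) (Spec.map (f.stalkMap y) r) := fun r => by
    rw [← Scheme.Hom.comp_apply, ← Scheme.Hom.comp_apply, Scheme.SpecMap_stalkMap_fromSpecStalk]
  rw [e] at h1
  have hle := (PrimeSpectrum.le_iff_specializes _ _).2
    ((X.fromSpecStalk (f y)).isEmbedding.isInducing.specializes_iff.1 h1)
  have hp : p ∈ Set.range (PrimeSpectrum.comap (f.stalkMap y).hom) := by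
    rw [range_comap_of_surjective _ _ (stalkMap_surjective f hb y)]
    intro a ha
    exact hle (show (f.stalkMap y).hom a ∈ q.asIdeal by rw [RingHom.mem_ker.1 ha]; exact Submodule.zero_mem _)
  obtain ⟨r, hr⟩ := hp
  exact ⟨Y.fromSpecStalk y r, (e r).trans (congrArg (X.fromSpecStalk (f y)) hr)⟩

theorem exists_specializes_preimage [IsLocallyNoetherian Y] [QuasiCompact f] {U : X.Opens} (hU : IsAffineOpen U)
    {C : Set Y} (hC : IsClosed C) {b : X} (hb : b ∈ closure (f '' (C ∩ f ⁻¹' (U : Set X)))) :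
    ∃ a ∈ C, f a ⤳ b := by
  let P := f ⁻¹ᵁ U
  have : CompactSpace ↥P.toScheme := isCompact_iff_compactSpace.1 (f.isCompact_preimage hU.isCompact)
  have : IsNoetherian P.toScheme := ⟨⟩
  obtain ⟨a, ha, hab⟩ := exists_specializes_image (g := fun a : P.toScheme => f (P.ι a))
    (f.continuous.comp P.ι.continuous) (hC.preimage P.ι.continuous) (b := b) (by
      convert hb using 2
      ext x
      constructor
      · rintro ⟨a, ha, rfl⟩
        exact ⟨P.ι a, ⟨ha, a.2⟩, rfl⟩
      · rintro ⟨a, ⟨ha, ha'⟩, rfl⟩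
        exact ⟨⟨a, ha'⟩, ha, rfl⟩)
  exact ⟨P.ι a, ha, hab⟩

theorem isEmbedding [IsLocallyNoetherian X] [LocallyOfFiniteType f] [QuasiCompact f] [Mono f] (hb : DVRLift f) :
    IsEmbedding f := by
  have : IsLocallyNoetherian Y := LocallyOfFiniteType.isLocallyNoetherian f
  refine ⟨isInducing_iff_nhds.2 fun y => le_antisymm (Filter.map_le_iff_le_comap.1 f.continuous.continuousAt) ?_,
    f.injective⟩
  rw [(nhds_basis_opens y).ge_iff]
  rintro O ⟨hy, hO⟩
  obtain ⟨U, hU, hfy, -⟩ := exists_isAffineOpen_mem_and_subset (U := (⊤ : X.Opens)) (x := f y) trivial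
  let W : Set X := (U : Set X) ∩ (closure (f '' (Oᶜ ∩ f ⁻¹' (U : Set X))))ᶜ
  refine Filter.mem_comap.2 ⟨W, (U.2.inter isClosed_closure.isOpen_compl).mem_nhds ⟨hfy, fun h => ?_⟩, ?_⟩
  · obtain ⟨a, ha, hab⟩ := exists_specializes_preimage f hU hO.isClosed_compl h
    exact ha ((specializes_of_map f hb hab).mem_open hO hy)
  · rintro z ⟨hz, hz'⟩
    by_contra hzO
    exact hz' (subset_closure ⟨z, ⟨hzO, hz⟩, rfl⟩)

theorem isLocallyClosed_range [IsLocallyNoetherian X] [LocallyOfFinitePresentation f] [QuasiCompact f] [Mono f]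
    (hb : DVRLift f) : IsLocallyClosed (Set.range f) := by
  have : IsLocallyNoetherian Y := LocallyOfFiniteType.isLocallyNoetherian f
  rw [isLocallyClosed_iff_isOpen_coborder]
  suffices h : IsClosed (closure (Set.range f) \ Set.range f) from h.isOpen_compl
  rw [← closure_subset_iff_isClosed]
  intro x hx
  refine ⟨closure_minimal Set.sdiff_subset isClosed_closure hx, ?_⟩
  rintro ⟨y, rfl⟩
  obtain ⟨U, hU, hfy, -⟩ := exists_isAffineOpen_mem_and_subset (U := (⊤ : X.Opens)) (x := f y) trivial
  have : IsAffine U.toScheme := hU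
  have : CompactSpace ↥U.toScheme := isCompact_iff_compactSpace.1 hU.isCompact
  have : IsNoetherian U.toScheme := ⟨⟩
  let E : Set U.toScheme := U.ι ⁻¹' closure (Set.range f) \ U.ι ⁻¹' Set.range f
  have h1 : IsConstructible (U.ι ⁻¹' closure (Set.range f)) :=
    IsConstructible.of_compl ((NoetherianSpace.isCompact _).isConstructible
      (isClosed_closure.preimage U.ι.continuous).isOpen_compl)
  have h2 : IsConstructible (U.ι ⁻¹' Set.range f) := by
    convert (f ∣_ U).isConstructible_image (s := Set.univ) IsConstructible.univ using 1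
    ext v
    rw [Set.image_univ]
    constructor
    · rintro ⟨z, hz⟩
      refine ⟨⟨z, show f z ∈ U by rw [hz]; exact v.2⟩, Subtype.ext ?_⟩
      exact (morphismRestrict_base_coe f U _).trans hz
    · rintro ⟨z, rfl⟩
      exact ⟨z.1, (morphismRestrict_base_coe f U z).symm⟩
  have hE : IsConstructible E := h1.sdiff h2
  let e := U.toScheme.isoSpec
  obtain ⟨S, _, φ, hφ⟩ := PrimeSpectrum.exists_range_eq_of_isConstructible
    (hE.preimage_of_isOpenEmbedding e.inv.isOpenEmbedding)
  let v : U.toScheme := ⟨f y, hfy⟩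
  have hv : v ∈ closure E := by
    show v ∈ closure (U.ι ⁻¹' closure (Set.range f) \ U.ι ⁻¹' Set.range f)
    rw [← Set.preimage_sdiff, ← U.ι.isOpenEmbedding.isOpenMap.preimage_closure_eq_closure_preimage U.ι.continuous]
    exact hx
  have hv' : e.hom v ∈ closure (Set.range (Spec.map (CommRingCat.ofHom φ))) := by
    refine map_mem_closure e.hom.continuous hv fun z hz => ?_
    show e.hom z ∈ Set.range (PrimeSpectrum.comap φ)
    rw [hφ]
    show e.inv (e.hom z) ∈ E
    rwa [← Scheme.Hom.comp_apply, e.hom_inv_id]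
  obtain ⟨r, hr⟩ := AlgSpVal.exists_specializes_of_mem_closure_range (Spec.map (CommRingCat.ofHom φ)) hv'
  let z : U.toScheme := e.inv (Spec.map (CommRingCat.ofHom φ) r)
  have hz : z ∈ E := by
    have : (Spec.map (CommRingCat.ofHom φ)) r ∈ e.inv ⁻¹' E := hφ ▸ ⟨r, rfl⟩
    exact this
  have hzv : z ⤳ v := by
    have h := hr.map e.inv.continuous
    rwa [← Scheme.Hom.comp_apply e.hom, e.hom_inv_id] at h
  obtain ⟨a, -, ha⟩ := exists_specializes_preimage f hU isClosed_univ (b := U.ι z) (by
    rw [Set.univ_inter, Set.image_preimage_eq_inter_range]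
    exact U.2.inter_closure ⟨z.2, hz.1⟩)
  exact hz.2 (mem_range_of_specializes f hb ha (hzv.map U.ι.continuous))

theorem isImmersion [IsLocallyNoetherian X] [LocallyOfFinitePresentation f] [Mono f]
    (hb : DVRLift f) (hc : DenseLift f) : IsImmersion f := by
  have := quasiCompact f hc
  have : SurjectiveOnStalks f := ⟨stalkMap_surjective f hb⟩
  have : IsPreimmersion f := ⟨isEmbedding f hb⟩
  exact ⟨isLocallyClosed_range f hb⟩

end Groth.Agent.ImmMono49
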